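import Groth.Agent.S12404
import Groth.Agent.LBDesc.DualRigid
import Groth.Agent.LBDesc.SectionApp
import Groth.Agent.AbPrim.Dual

/-!
A dual abelian scheme carries a Poincaré class.
-/

set_option autoImplicit false
set_option backward.isDefEq.respectTransparency false
set_option backward.isDefEq.respectTransparency.types false
set_option linter.style.haveILetI false
set_option linter.unusedSectionVars false
set_option maxHeartbeats 2000000

universe u

open CategoryTheory CategoryTheory.Limits MonoidalCategory CartesianMonoidalCategory MonObj GrpObj AlgebraicGeometry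
open PicF
open Groth.Agent.W7Cube (pull pull_pull pull_cls)

noncomputable section

namespace Groth.Agent.AVPoincare

attribute [local instance] W7Cube.law

variable {S : Scheme.{u}} {A : Over S}

/-- algebraic triviality of the pullback at a point over `t` gives it at `t` when geometric points lift -/
theorem algTrivialAt_of_pull {T T' : Over S} (g : T' ⟶ T) {L : (XT A.hom T).Modules} (hL : PicF.IsInvertible L)
    (h : AbDual.IsPicZeroCl A.hom T' (pull (XTmap A.hom g) (PicGrp.cls L hL)).1) (Ω : Type u) [Field Ω] [IsAlgClosed Ω]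
    (σ' : Spec (CommRingCat.of Ω) ⟶ T'.left) (σ : Spec (CommRingCat.of Ω) ⟶ T.left) (hσ : σ' ≫ g.left = σ) :
    @Pic13.IsAlgEquivZero Ω _ (pullback (XTproj A.hom T) σ) ⟨pullback.snd (XTproj A.hom T) σ⟩
      ((Scheme.Modules.pullback (pullback.fst (XTproj A.hom T) σ)).obj L) := by
  obtain ⟨L', hL', hi, hL't⟩ := h
  have hL'' : PicGrp.cls L' hi = pull (XTmap A.hom g) (PicGrp.cls L hL) := Subtype.ext hL'
  rw [pull_cls, PicGrp.cls_eq_cls_iff] at hL''
  obtain ⟨i⟩ := hL''
  let z := σ' (IsLocalRing.closedPoint Ω)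
  have hz : Set.range σ'.base = {z} := by
    haveI : Subsingleton (Spec (CommRingCat.of Ω)) := inferInstanceAs (Subsingleton (PrimeSpectrum Ω))
    exact Set.eq_singleton_iff_unique_mem.2 ⟨⟨_, rfl⟩, by
      rintro _ ⟨w, rfl⟩
      exact congrArg σ'.base (Subsingleton.elim (α := Spec (CommRingCat.of Ω)) _ _)⟩
  let φ : pullback (XTproj A.hom T) σ ⟶ pullback (XTproj A.hom T') σ' :=
    pullback.lift ((PicFam.isPullback_XTmap A.hom g).lift (pullback.fst _ _) (pullback.snd _ _ ≫ σ')
      (by rw [Category.assoc, hσ]; exact pullback.condition)) (pullback.snd _ _) (IsPullback.lift_snd _ _ _ _)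
  letI : (pullback (XTproj A.hom T) σ).Over (Spec (CommRingCat.of Ω)) := ⟨pullback.snd _ _⟩
  refine AbPrim.algEquiv_iso ?_ (AbPrim.algEquiv_pullback (pullback.snd (XTproj A.hom T') σ')
    (pullback.snd (XTproj A.hom T) σ) φ (pullback.lift_snd _ _ _) (hL't z Ω σ' hz))
  exact (Scheme.Modules.pullback φ).mapIso ((Scheme.Modules.pullback _).mapIso i) ≪≫
    (Scheme.Modules.pullbackComp φ _).app _ ≪≫ (Scheme.Modules.pullbackCongr (pullback.lift_fst _ _ _)).app _ ≪≫
    (Scheme.Modules.pullbackComp _ (XTmap A.hom g)).app L ≪≫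
    (Scheme.Modules.pullbackCongr (IsPullback.lift_fst _ _ _ _)).app L

/-- a class is in `Pic⁰` when it is so on the members of an open cover of the base -/
theorem picZero_of_openCover {T : Over S} {κ : Type u} (U : κ → Over S) (g : ∀ i, U i ⟶ T)
    [∀ i, IsOpenImmersion (g i).left] (hcov : ∀ t : T.left, ∃ i y, (g i).left y = t)
    (c : PicLoc.PicSet (XT A.hom T)) (h : ∀ i, AbDual.IsPicZeroCl A.hom (U i) (pull (XTmap A.hom (g i)) c).1) :
    AbDual.IsPicZeroCl A.hom T c.1 := by
  obtain ⟨L, hL, rfl⟩ := PicGrp.exists_eq_cls c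
  refine ⟨L, rfl, hL, fun t Ω _ _ σ hσ => ?_⟩
  obtain ⟨i, y, hy⟩ := hcov t
  have hr : Set.range σ ⊆ Set.range (g i).left := by
    rw [hσ, Set.singleton_subset_iff]
    exact ⟨y, hy⟩
  exact algTrivialAt_of_pull (g i) hL (h i) Ω (IsOpenImmersion.lift (g i).left σ hr) σ (IsOpenImmersion.lift_fac _ _ _)

/-- `Pic⁰` descends along surjective morphisms locally of finite type -/
theorem picZero_of_surjective {T T' : Over S} (g : T' ⟶ T) [Surjective g.left] [LocallyOfFiniteType g.left]
    (c : PicLoc.PicSet (XT A.hom T)) (h : AbDual.IsPicZeroCl A.hom T' (pull (XTmap A.hom g) c).1) :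
    AbDual.IsPicZeroCl A.hom T c.1 := by
  obtain ⟨L, hL, rfl⟩ := PicGrp.exists_eq_cls c
  refine ⟨L, rfl, hL, fun t Ω _ _ σ hσ => ?_⟩
  let q := pullback.snd g.left σ
  haveI : LocallyOfFiniteType q := inferInstance
  haveI : Surjective q := inferInstance
  haveI : JacobsonSpace (pullback g.left σ : Scheme.{u}) := LocallyOfFiniteType.jacobsonSpace q
  obtain ⟨w, hw⟩ := q.surjective (IsLocalRing.closedPoint Ω)
  obtain ⟨p, -, hp⟩ := nonempty_inter_closedPoints (Z := (Set.univ : Set ↥(pullback g.left σ))) ⟨w, trivial⟩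
    isOpen_univ.isLocallyClosed
  refine algTrivialAt_of_pull g hL h Ω (pointOfClosedPoint q p hp ≫ pullback.fst g.left σ) σ ?_
  rw [Category.assoc, pullback.condition]
  exact (congrArg (· ≫ σ) (pointOfClosedPoint_comp q p hp)).trans (Category.id_comp σ)

variable [GrpObj A] [IsProper A.hom] [Smooth A.hom] [GeometricallyConnected A.hom] {At : Over S} [GrpObj At]
  {φ : ∀ T : Over S, PicF.Cl (PicF.XT A.hom T) → (T ⟶ At)}
  (hA : AbDual.IsDualAV Scheme.fppfPrecoverage A At φ)

include hA in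
/-- rigidified `Pic⁰` classes exhaust the points of the dual -/
theorem exists_rig_picZero (T : Over S) (g : T ⟶ At) : ∃ c : PicLoc.PicSet (XT A.hom T),
    AbDual.IsPicZeroCl A.hom T c.1 ∧ pull (secT A.hom η[A].left (Over.w η[A]) T) c = 1 ∧ φ T c.1 = g := by
  let f := A.hom
  let σ : S ⟶ A.left := η[A].left
  have hσ : σ ≫ f = 𝟙 S := Over.w η[A]
  have ha := LBDesc.isIso_XTproj_app f σ hσ
  obtain ⟨R, hR, hRu⟩ := hA.relPic.locallySurjective T g
  obtain ⟨κ, U, v, hR', hv⟩ := S12404.exists_small_cover hR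
  obtain ⟨_, _, _⟩ := S12404.sigma_props hR'
  choose c hc hcg using fun i => hRu (v i) (hv i)
  let T' := AbDual.ovr T (Sigma.desc v)
  let pcl : ∀ i, PicLoc.PicSet (XT f (AbDual.ovr T (v i))) := fun i => ⟨c i, (hc i).choose, (hc i).choose_spec.1, (hc i).choose_spec.2.1⟩
  let d : ∀ i, PicLoc.PicSet (XT f (AbDual.ovr T (v i))) := fun i =>
    pcl i * pull (pullback.snd f _) (pull (secT f σ hσ _) (pcl i))⁻¹
  have hd1 : ∀ i, pull (secT f σ hσ _) (d i) = 1 := fun i => by
    simp only [d, map_mul, pull_pull, S12403.secT_proj f σ hσ]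
    rw [show ∀ x, pull (𝟙 (AbDual.ovr T (v i)).left) x = x from fun x => by
      obtain ⟨N, hN, rfl⟩ := PicGrp.exists_eq_cls x
      exact Subtype.ext (Quot.sound ⟨(Scheme.Modules.pullbackId _).app N⟩), mul_inv_cancel]
  have hd0 : ∀ i, AbDual.IsPicZeroCl f _ (d i).1 := fun i => AbPrim.picZero_mul_base (A := A) (hc i) _
  have hd2 : ∀ i, φ _ (d i).1 = AbDual.ovrHom T (v i) ≫ g := fun i =>
    (AbPrim.phi_mul_base hA (c := pcl i) (hc i) _).trans (hcg i)
  choose D hD hDd using fun i => PicGrp.exists_eq_cls (d i)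
  obtain ⟨C, hC, hCi⟩ := LBDesc.exists_invertible_disjointUnion _ (S12404.disjoint_summand f T v)
    (S12404.cover_summand f T v) D hD
  let C' : PicLoc.PicSet (XT f T') := PicGrp.cls C hC
  have hC' : ∀ i, pull (XTmap f (S12404.summand T v i)) C' = d i := fun i => by
    rw [hDd i]
    exact Subtype.ext (Quot.sound (hCi i))
  haveI : ∀ i, IsOpenImmersion (S12404.summand T v i).left := fun i => inferInstanceAs (IsOpenImmersion (Sigma.ι U i))
  have hC0 : AbDual.IsPicZeroCl f T' C'.1 := picZero_of_openCover _ (S12404.summand T v)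
    (fun t => (sigmaOpenCover U).exists_eq t) C' fun i => by rw [hC' i]; exact hd0 i
  have hCs : pull (secT f σ hσ T') C' = 1 := by
    obtain ⟨N, hN, hN'⟩ := PicGrp.exists_eq_cls (pull (secT f σ hσ T') C')
    rw [hN']
    refine Subtype.ext (Quot.sound (LBDesc.trivial_of_disjointUnion (Sigma.ι U)
      (fun a b hab => disjoint_opensRange_sigmaι U a b hab) (fun y => (sigmaOpenCover U).exists_eq y) N fun i => ?_))
    refine PicFam.nonempty_iso_of_cl_eq (congrArg Subtype.val (?_ : pull (Sigma.ι U i) (PicGrp.cls N hN) = 1))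
    rw [← hN']
    change pull ((S12404.summand T v i).left) (pull (secT f σ hσ T') C') = 1
    rw [pull_pull, ← hd1 i, ← hC' i, pull_pull, S12403.secT_nat f σ hσ (S12404.summand T v i)]
  have hnat : ∀ {T₁ T₂ : Over S} (q : T₁ ⟶ T₂) (x : PicLoc.PicSet (XT f T₂)), AbDual.IsPicZeroCl f T₂ x.1 →
      φ T₁ (pull (XTmap f q) x).1 = q ≫ φ T₂ x.1 := fun q x hx => hA.relPic.natural _ _ q x.1 hx
  have hCg : φ T' C'.1 = AbDual.ovrHom T (Sigma.desc v) ≫ g := by
    refine Over.OverMorphism.ext (Sigma.hom_ext _ _ fun i => ?_)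
    have e := hnat (S12404.summand T v i) C' hC0
    rw [hC' i, hd2 i, ← S12404.summand_comp T v i, Category.assoc] at e
    exact (congrArg CommaMorphism.left e).symm
  let a := AbDual.ovrHom T' (pullback.fst (Sigma.desc v) (Sigma.desc v))
  let b : AbDual.ovr T' (pullback.fst (Sigma.desc v) (Sigma.desc v)) ⟶ T' :=
    Over.homMk (pullback.snd _ _) (pullback.condition_assoc T.hom).symm
  have hab : a ≫ AbDual.ovrHom T (Sigma.desc v) = b ≫ AbDual.ovrHom T (Sigma.desc v) :=
    Over.OverMorphism.ext pullback.condition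
  have hrig : ∀ q : AbDual.ovr T' (pullback.fst (Sigma.desc v) (Sigma.desc v)) ⟶ T',
      pull (secT f σ hσ _) (pull (XTmap f q) C') = 1 := fun q => by
    rw [pull_pull, S12403.secT_nat, ← pull_pull, hCs, map_one]
  have hglue : pull (XTmap f a) C' = pull (XTmap f b) C' := by
    refine LBDesc.rig_ext f σ hσ ha hA.relPic (LBDesc.picZero_XTmap f a hC0) (LBDesc.picZero_XTmap f b hC0)
      (hrig a) (hrig b) ?_
    rw [hnat a C' hC0, hnat b C' hC0, hCg, ← Category.assoc, ← Category.assoc, hab]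
  obtain ⟨c₀, hc₀, -⟩ := S12403.result f σ hσ ha T (Sigma.desc v)
    ⟨C'.1, C'.2, congrArg Subtype.val hCs⟩ (congrArg Subtype.val hglue)
  let c₁ : PicLoc.PicSet (XT f T) := ⟨c₀.1, c₀.2.1⟩
  have hp : pull (XTmap f (AbDual.ovrHom T (Sigma.desc v))) c₁ = C' := Subtype.ext hc₀
  haveI : Surjective (AbDual.ovrHom T (Sigma.desc v)).left := ‹Surjective (Sigma.desc v)›
  haveI : LocallyOfFiniteType (AbDual.ovrHom T (Sigma.desc v)).left := inferInstanceAs (LocallyOfFiniteType (Sigma.desc v))
  have h10 : AbDual.IsPicZeroCl f T c₁.1 := picZero_of_surjective (AbDual.ovrHom T (Sigma.desc v)) c₁ (by rw [hp]; exact hC0)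
  refine ⟨c₁, h10, Subtype.ext c₀.2.2, ?_⟩
  have e := hnat (AbDual.ovrHom T (Sigma.desc v)) c₁ h10
  rw [hp, hCg] at e
  refine Over.OverMorphism.ext ((cancel_epi (Sigma.desc v)).1 ?_)
  exact (congrArg CommaMorphism.left e).symm

include hA in
/-- **existence of a Poincaré class** -/
theorem exists_isPoincareCl : ∃ P : (XT A.hom At).Modules, PicF.IsInvertible P ∧
    AbDual.IsPoincareCl A At φ (PicF.cl P) := by
  obtain ⟨c, h0, h1, h2⟩ := exists_rig_picZero hA At (𝟙 At)
  obtain ⟨P, hP, rfl⟩ := PicGrp.exists_eq_cls c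
  exact ⟨P, hP, h0, h2, congrArg Subtype.val h1⟩

end Groth.Agent.AVPoincare
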